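import Groth.Agent.CurveBC.Coh
import Groth.Agent.CurveCohLib.Proper
import Groth.Agent.S1026
import Groth.Agent.H26.FibModel
import Groth.Agent.QCoh.Support
import Groth.Prelude.Def_PerfAux

/-!
# Euler characteristics of fibres seen over a field-valued point
-/

set_option autoImplicit false
set_option linter.style.haveILetI false
set_option backward.isDefEq.respectTransparency false
set_option backward.isDefEq.respectTransparency.types false

universe u

open CategoryTheory CategoryTheory.Limits AlgebraicGeometry

noncomputable section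

namespace Groth.Agent.DivEuler

/-- The Euler characteristic of the pullback to a field-valued point is that of the fibre. -/
theorem euler_eq_eulerChar {X S : Scheme.{u}} (f : X ⟶ S) [IsProper f] (K : Type u) [Field K] {W : Scheme.{u}}
    [W.Over (Spec (CommRingCat.of K))] (b : Spec (CommRingCat.of K) ⟶ S) (g : W ⟶ X)
    (hc : IsPullback g (W ↘ Spec (CommRingCat.of K)) f b) (F : X.Modules) (hF : Coh.IsQCoh F) :
    Curv2.euler K W ((Scheme.Modules.pullback g).obj F) =
      PerfAux.eulerChar f F (b (IsLocalRing.closedPoint K)) := by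
  let s : S := b (IsLocalRing.closedPoint K)
  let κ := S.residueField s
  obtain ⟨ψ, hψ⟩ : ∃ ψ : CommRingCat.of κ ⟶ CommRingCat.of K, Spec.map ψ ≫ S.fromSpecResidueField s = b :=
    ⟨_, Scheme.descResidueField_stalkClosedPointTo_fromSpecResidueField K S b⟩
  letI : Algebra κ K := ψ.hom.toAlgebra
  letI : (f.fiber s).Over (Spec (CommRingCat.of κ)) := ⟨f.fiberToSpecResidueField s⟩
  haveI : IsProper (f.fiber s ↘ Spec (CommRingCat.of κ)) :=
    MorphismProperty.pullback_snd f (S.fromSpecResidueField s) ‹IsProper f›
  haveI := CurveCohLib.isNoetherian_of_proper (k := κ) (X := f.fiber s)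
  haveI : QuasiSeparatedSpace (f.fiber s) :=
    quasiSeparatedSpace_of_quasiSeparated (f.fiber s ↘ Spec (CommRingCat.of κ))
  let v : W ⟶ f.fiber s := pullback.lift g ((W ↘ Spec (CommRingCat.of K)) ≫ Spec.map ψ)
    (by rw [Category.assoc, hψ]; exact hc.w)
  have e1 : v ≫ f.fiberι s = g := pullback.lift_fst _ _ _
  have hpb : IsPullback v (W ↘ Spec (CommRingCat.of K)) (f.fiber s ↘ Spec (CommRingCat.of κ))
      (Spec.map (CommRingCat.ofHom (algebraMap κ K))) := by
    refine IsPullback.of_right ?_ (pullback.lift_snd _ _ _) (IsPullback.of_hasPullback f (S.fromSpecResidueField s))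
    show IsPullback (v ≫ f.fiberι s) (W ↘ Spec (CommRingCat.of K)) f (Spec.map ψ ≫ S.fromSpecResidueField s)
    rw [e1, hψ]
    exact hc
  exact (CurveCohLib.euler_congr (k := K) (((Scheme.Modules.pullbackCongr e1).app F).symm ≪≫
    ((Scheme.Modules.pullbackComp v (f.fiberι s)).app F).symm)).trans
    (CurveBC.euler_eq κ K v hpb ((Scheme.Modules.pullback (f.fiberι s)).obj F) (QCoh.isQCoh_pullback _ hF))

/-- In a proper flat family over a discrete valuation ring the structure sheaves of the two fibres have the
same Euler characteristic. -/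
theorem euler_generic_eq_euler_closed {R : Type u} [CommRing R] [IsDomain R] [IsDiscreteValuationRing R]
    {X : Scheme.{u}} (p : X ⟶ Spec (CommRingCat.of R)) [IsProper p] [Flat p]
    {K : Type u} [Field K] {W : Scheme.{u}} [W.Over (Spec (CommRingCat.of K))]
    (b : Spec (CommRingCat.of K) ⟶ Spec (CommRingCat.of R)) (g : W ⟶ X)
    (hc : IsPullback g (W ↘ Spec (CommRingCat.of K)) p b)
    {k : Type u} [Field k] {Y : Scheme.{u}} [Y.Over (Spec (CommRingCat.of k))]
    (i : Spec (CommRingCat.of k) ⟶ Spec (CommRingCat.of R))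
    (hi : i (IsLocalRing.closedPoint k) = IsLocalRing.closedPoint R) (h : Y ⟶ X)
    (hs : IsPullback h (Y ↘ Spec (CommRingCat.of k)) p i) :
    Curv2.euler K W (Coh.structureModule W) = Curv2.euler k Y (Coh.structureModule Y) := by
  haveI : IsNoetherianRing (CommRingCat.of R) := inferInstanceAs (IsNoetherianRing R)
  haveI : LocallyOfFinitePresentation p := inferInstance
  haveI : IsLocallyNoetherian X := LocallyOfFiniteType.isLocallyNoetherian p
  have hO : Coh.IsCoh (Coh.structureModule X) := QCoh.isCoh_structureModule'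
  have hlc := S1026.result p (Coh.structureModule X) (QCoh.isCoh_iff_isFP.1 hO) (H26.FibModel.isFlatOver_structureModule p)
  have e₁ := euler_eq_eulerChar p K b g hc _ hO.1
  have e₂ := euler_eq_eulerChar p k i h hs _ hO.1
  rw [CurveCohLib.euler_congr (k := K) (CurveBC.unitIso g)] at e₁
  rw [CurveCohLib.euler_congr (k := k) (CurveBC.unitIso h), hi] at e₂
  rw [e₁, e₂]
  refine hlc.apply_eq_of_isPreconnected (s := Set.univ) ?_ trivial trivial
  exact isPreconnected_univ

end Groth.Agent.DivEuler
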