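import Groth.Agent.H26.EulerFibre
import Groth.Agent.AmpleVan.FiniteSurj
import Groth.Agent.AmpleVan.ThickPush
import Groth.Agent.H9Misc.ClosedPushFull
import Groth.Agent.Lib.ClosedShriek
import Groth.Agent.Pic13Lib.IntNum
import Groth.Agent.Snapper.Main
import Groth.Agent.FlatMisc.DimConstr
import Groth.Agent.H26.IdealCl
import Groth.Agent.QCoh.DevissageP
import Groth.Agent.RefX.Transfer

/-!
# The Euler characteristic of a multiple divisor with torsion self-restriction

If `Y = V(I^m)` is proper over a field, `I` is an invertible ideal and `I^m` is trivial, then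
`χ(O_Y) = m χ(O_D)` for `D = V(I)`.
-/

set_option autoImplicit false
set_option linter.style.haveILetI false
set_option linter.unusedSectionVars false
set_option backward.isDefEq.respectTransparency false
set_option backward.isDefEq.respectTransparency.types false
set_option maxHeartbeats 1000000

universe u

open CategoryTheory CategoryTheory.Limits AlgebraicGeometry TopologicalSpace
open Groth.Agent.H23
open scoped Groth.Agent.H23.PicMul

noncomputable section

namespace Groth.Agent.DivEuler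

/-- A proper scheme over a field has finite dimension. -/
theorem exists_dim_le (k : Type u) [Field k] (X : Scheme.{u}) [X.Over (Spec (CommRingCat.of k))]
    [IsProper (X ↘ Spec (CommRingCat.of k))] : ∃ d : ℕ, topologicalKrullDim X ≤ d := by
  let f := X ↘ Spec (CommRingCat.of k)
  let y : Spec (CommRingCat.of k) := IsLocalRing.closedPoint k
  obtain ⟨n, hn⟩ := FlatMisc.DimConstr.exists_dim_le f y
  refine ⟨n, le_trans ?_ hn⟩
  have hu : ∀ x : X, f x = y := fun x => Subsingleton.elim _ _
  let g : X → ↥(f ⁻¹' {y}) := fun x => ⟨x, hu x⟩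
  have hg : Topology.IsInducing g :=
    (Topology.IsInducing.subtypeVal.of_comp_iff (f := g)).1 Topology.IsInducing.id
  exact ((f.fiberHomeo y).symm.isInducing.comp hg).topologicalKrullDim_le

/-- A polynomial that repeats a value on the multiples of `m` is constant. -/
theorem polynomial_eq_const (P : Polynomial ℚ) (m : ℕ) (hm : 1 ≤ m)
    (h : ∀ a : ℕ, P.eval ((m * a : ℕ) : ℚ) = P.eval 0) (x : ℚ) : P.eval x = P.eval 0 := by
  have h0 : P - Polynomial.C (P.eval 0) = 0 := by
    refine Polynomial.eq_zero_of_infinite_isRoot _ ((Set.infinite_range_of_injective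
      (f := fun a : ℕ => ((m * a : ℕ) : ℚ)) fun a b hab => ?_).mono ?_)
    · exact Nat.eq_of_mul_eq_mul_left (show 0 < m by omega) (Nat.cast_injective (R := ℚ) hab)
    · rintro _ ⟨a, rfl⟩
      show (P - Polynomial.C (P.eval 0)).eval _ = 0
      rw [Polynomial.eval_sub, Polynomial.eval_C, h a, sub_self]
  rw [sub_eq_zero] at h0
  rw [h0, Polynomial.eval_C, Polynomial.eval_C]

section

variable (k : Type u) [Field k] {D : Scheme.{u}} [D.Over (Spec (CommRingCat.of k))]
  [IsProper (D ↘ Spec (CommRingCat.of k))]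

/-- The powers of a torsion invertible module all have the same Euler characteristic. -/
theorem euler_torsion {L : D.Modules} (hL : PicF.IsInvertible L) (m : ℕ) (hm : 1 ≤ m)
    (htor : PicF.cl L ^ m = 1) {M : D.Modules} {j : ℕ} (hM : PicF.cl M = PicF.cl L ^ j) :
    Curv2.euler k D M = Curv2.euler k D (Coh.structureModule D) := by
  haveI := CurveCohLib.isNoetherian_of_proper (k := k) (X := D)
  obtain ⟨d, hd⟩ := exists_dim_le k D
  have hC : topologicalKrullDim ↥((⊤ : Closeds D) : Set D) < ((d + 1 : ℕ) : WithBot ℕ∞) := by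
    refine lt_of_le_of_lt (Topology.IsInducing.subtypeVal.topologicalKrullDim_le.trans hd) ?_
    exact_mod_cast Nat.lt_succ_self d
  obtain ⟨P, -, hP⟩ := Snapper.isPolyLt_of_dim_lt k hL (d + 1) ⊤ hC (Coh.structureModule D)
    QCoh.isCoh_structureModule' (Set.subset_univ _)
  have hcl : ∀ (N : D.Modules) (a : ℕ), PicF.cl N = PicF.cl L ^ a →
      (Curv2.euler k D N : ℚ) = P.eval (a : ℚ) := by
    intro N a hN
    rw [← hP a]
    obtain ⟨e⟩ : Nonempty (N ≅ ShStab.twist D L (Coh.structureModule D) a) := PicMul.cl_eq_iff.1 (by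
      rw [hN]
      show _ = PicF.cl (CohB1.tensorMod (Coh.structureModule D) (CohB1.tensorPow L a))
      rw [PicMul.cl_tensor, PicMul.cl_tensorPow, ← PicMul.one_def, one_mul])
    exact congrArg (Int.cast : ℤ → ℚ) (CurveCohLib.euler_congr (k := k) e)
  have h0 : ∀ a : ℕ, P.eval ((m * a : ℕ) : ℚ) = P.eval 0 := fun a => by
    rw [← hcl (Coh.structureModule D) (m * a) (by rw [pow_mul, htor, one_pow, ← PicMul.one_def]),
      hcl (Coh.structureModule D) 0 (by rw [pow_zero, ← PicMul.one_def]), Nat.cast_zero]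
  have key := polynomial_eq_const P m hm h0 (j : ℚ)
  rw [← hcl M j hM, ← Nat.cast_zero (R := ℚ),
    ← hcl (Coh.structureModule D) 0 (by rw [pow_zero, ← PicMul.one_def])] at key
  exact_mod_cast key

end

variable {X : Scheme.{u}}

/-- Tensoring the structure sheaf of a closed subscheme with an invertible module. -/
theorem nonempty_tensor_quotMod {Z : Scheme.{u}} (i : Z ⟶ X) [IsClosedImmersion i] {A : X.Modules}
    (hA : PicF.IsInvertible A) :
    Nonempty ((DCoh.tensorBi.obj A).obj (ClSub.quotMod i.ker) ≅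
      (Scheme.Modules.pushforward i).obj ((Scheme.Modules.pullback i).obj A)) := by
  obtain ⟨q⟩ := DivisorExt.nonempty_quotMod_iso i
  haveI : EnoughInjectives Z.Modules := inferInstance
  obtain ⟨φ⟩ := S0927.result i (Coh.structureModule Z) A
    (fun y => let ⟨W, hy, he⟩ := InvEnd.isFinLocFreeOfRank_one hA y; ⟨W, 1, hy, he⟩) 0
  let ψ := (Scheme.Modules.pushforward i).rightDerivedZeroIsoSelf
  obtain ⟨c⟩ := PicMul.cl_eq_iff.1
    (show PicF.cl (CohB1.tensorMod ((Scheme.Modules.pullback i).obj A) (Coh.structureModule Z)) =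
      PicF.cl ((Scheme.Modules.pullback i).obj A) by
      rw [PicMul.cl_tensor, ← PicMul.one_def, mul_one])
  exact ⟨(DCoh.tensorBi.obj A).mapIso (q ≪≫ (ψ.app _).symm) ≪≫ φ ≪≫ ψ.app _ ≪≫
    (Scheme.Modules.pushforward i).mapIso c⟩

/-- The sequence `0 → J ⊗ O/I → O/JI → O/J → 0`. -/
theorem exists_step (J I : X.IdealSheafData) (hJ : BlowUp.IsEffCartierIdeal J) :
    ∃ T : ShortComplex X.Modules, T.ShortExact ∧
      Nonempty (T.X₁ ≅ (DCoh.tensorBi.obj (ClSub.idealMod J)).obj (ClSub.quotMod I)) ∧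
      Nonempty (T.X₂ ≅ ClSub.quotMod (J * I)) ∧ Nonempty (T.X₃ ≅ ClSub.quotMod J) := by
  have hA := H26.IdealCl.isInvertible_idealMod hJ
  let A := ClSub.idealMod J
  haveI := H26.IdealCl.isEquivalence_tensor hA
  haveI : Mono (ClSub.idealModι I) := inferInstanceAs (Mono (kernel.ι _))
  haveI : Mono (ClSub.idealModι J) := inferInstanceAs (Mono (kernel.ι _))
  haveI : Mono (DivisorExt.mulIdeal I A) := by
    haveI : Mono ((DCoh.tensorBi.obj A).map (ClSub.idealModι I)) := inferInstance
    exact mono_comp _ _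
  let f := DivisorExt.mulIdeal I A
  let g : A ⟶ Coh.structureModule X := ClSub.idealModι J
  let T : ShortComplex X.Modules :=
    ShortComplex.mk (cokernel.map f (f ≫ g) (𝟙 _) g (by simp)) (cokernel.map (f ≫ g) g f (𝟙 _) (by simp))
      ((kernelCokernelCompSequence_exact f g).toIsComplex.zero' 3 4 5)
  have hT : T.ShortExact := by
    have h1 : T.Exact := (kernelCokernelCompSequence_exact f g).exact' 3 4 5
    haveI : Mono T.f := ((kernelCokernelCompSequence_exact f g).exact' 2 3 4).mono_g
      ((isZero_kernel_of_mono g).eq_of_src _ _)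
    haveI : Epi T.g := inferInstanceAs (Epi ((kernelCokernelCompSequence f g).map' 4 5))
    exact ShortComplex.ShortExact.mk h1
  obtain ⟨e₁⟩ := DivisorExt.nonempty_cokernel_mulIdeal I A
  obtain ⟨e, he⟩ : ∃ e : (DCoh.tensorBi.obj A).obj (ClSub.idealMod I) ≅ ClSub.idealMod (J * I),
      e.hom ≫ ClSub.idealModι (J * I) = f ≫ g := H26.EulerFibre.exists_mul_iso I J hJ
  have hq : ∀ K : X.IdealSheafData, Nonempty (cokernel (ClSub.idealModι K) ≅ ClSub.quotMod K) := fun K =>
    ⟨IsColimit.coconePointUniqueUpToIso (cokernelIsCokernel _) (DivisorExt.ideal_shortExact K).gIsCokernel⟩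
  obtain ⟨qJ⟩ := hq J
  obtain ⟨qK⟩ := hq (J * I)
  exact ⟨T, hT, ⟨e₁⟩,
    ⟨cokernel.mapIso (f ≫ g) (ClSub.idealModι (J * I)) e (Iso.refl _) (by simp [he]) ≪≫ qK⟩, ⟨qJ⟩⟩

theorem pow_eff_and_cl {I : X.IdealSheafData} (hI : BlowUp.IsEffCartierIdeal I) (n : ℕ) :
    BlowUp.IsEffCartierIdeal (I ^ n) ∧ PicF.cl (ClSub.idealMod (I ^ n)) = PicF.cl (ClSub.idealMod I) ^ n := by
  induction n with
  | zero => exact ⟨by rw [pow_zero]; simpa using H26.IdealCl.isEffCartier_top (X := X), by
      rw [pow_zero, pow_zero]; exact H26.IdealCl.cl_one⟩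
  | succ n ih =>
    rw [pow_succ']
    exact ⟨H26.IdealCl.isEffCartier_mul ih.1 hI, by rw [H26.IdealCl.cl_mul _ _ hI, ih.2, pow_succ']⟩

/-- `χ(O_Y) = m χ(O_D)`. -/
theorem dvd_euler [IsLocallyNoetherian X] (k : Type u) [Field k] {Y : Scheme.{u}} [Y.Over (Spec (CommRingCat.of k))]
    [IsProper (Y ↘ Spec (CommRingCat.of k))] (ι : Y ⟶ X) [IsClosedImmersion ι]
    (I : X.IdealSheafData) (hI : BlowUp.IsEffCartierIdeal I) (m : ℕ) (hm : 1 ≤ m)
    (hker : ι.ker = I ^ m) (e : ClSub.idealMod (I ^ m) ≅ Coh.structureModule X) :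
    (m : ℤ) ∣ Curv2.euler k Y (Coh.structureModule Y) := by
  haveI := AmpleVan.faithful_push ι
  haveI : (Scheme.Modules.pushforward ι).Full := ⟨fun χ => H9Misc.ClosedPushFull.exists_map ι χ⟩
  haveI : PreservesFiniteColimits (Scheme.Modules.pushforward ι) := ClosedShriek.preservesFiniteColimits_push ι
  haveI : PreservesFiniteLimits (Scheme.Modules.pushforward ι) := QCoh.preservesFiniteLimits_push ι
  let Φ := Functor.FullyFaithful.ofFullyFaithful (Scheme.Modules.pushforward ι)
  haveI := CurveCohLib.isNoetherian_of_proper (k := k) (X := Y)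
  have hle : ∀ j, j ≤ m → ι.ker ≤ (I ^ j).subschemeι.ker := fun j hj => by
    rw [Scheme.IdealSheafData.ker_subschemeι, hker, Scheme.IdealSheafData.le_def]
    intro U
    rw [Scheme.IdealSheafData.ideal_pow, Scheme.IdealSheafData.ideal_pow, Pi.pow_apply, Pi.pow_apply]
    exact Ideal.pow_le_pow_right hj
  have hQ : ∀ j, j ≤ m → ∃ Q : Y.Modules, Coh.IsCoh Q ∧
      Nonempty ((Scheme.Modules.pushforward ι).obj Q ≅ ClSub.quotMod (I ^ j)) := by
    intro j hj
    let c := IsClosedImmersion.lift ι (I ^ j).subschemeι (hle j hj)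
    have hc : c ≫ ι = (I ^ j).subschemeι := IsClosedImmersion.lift_fac _ _ _
    haveI : IsClosedImmersion (c ≫ ι) := by rw [hc]; infer_instance
    haveI : IsClosedImmersion c := IsClosedImmersion.of_comp c ι
    haveI : IsLocallyNoetherian (I ^ j).subscheme := LocallyOfFiniteType.isLocallyNoetherian c
    obtain ⟨q⟩ := DivisorExt.nonempty_quotMod_iso (I ^ j).subschemeι
    rw [Scheme.IdealSheafData.ker_subschemeι] at q
    refine ⟨(Scheme.Modules.pushforward c).obj (Coh.structureModule _),
      QCoh.isCoh_push c QCoh.isCoh_structureModule', ⟨?_⟩⟩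
    exact (Scheme.Modules.pushforwardComp c ι).app _ ≪≫ (Scheme.Modules.pushforwardCongr hc).app _ ≪≫ q.symm
  -- the divisor `D`
  let D := I.subscheme
  let d := I.subschemeι
  have hle1 : ι.ker ≤ d.ker := by
    have h := hle 1 hm
    rw [Scheme.IdealSheafData.ker_subschemeι, pow_one] at h
    rwa [Scheme.IdealSheafData.ker_subschemeι]
  let c := IsClosedImmersion.lift ι d hle1
  have hc : c ≫ ι = d := IsClosedImmersion.lift_fac _ _ _
  haveI : IsClosedImmersion (c ≫ ι) := by rw [hc]; infer_instance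
  haveI : IsClosedImmersion c := IsClosedImmersion.of_comp c ι
  letI : D.Over (Spec (CommRingCat.of k)) := ⟨c ≫ (Y ↘ Spec (CommRingCat.of k))⟩
  haveI : IsProper (D ↘ Spec (CommRingCat.of k)) :=
    show IsProper (c ≫ (Y ↘ Spec (CommRingCat.of k))) from inferInstance
  haveI := CurveCohLib.isNoetherian_of_proper (k := k) (X := D)
  have hclp : ∀ {A : X.Modules}, PicF.cl ((Scheme.Modules.pullback d).obj A) = PicF.pullCl d (PicF.cl A) :=
    fun {A} => rfl
  let L := (Scheme.Modules.pullback d).obj (ClSub.idealMod I)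
  have hIi := H26.IdealCl.isInvertible_idealMod hI
  have hL : PicF.IsInvertible L := PicClLib.isInvertible_pullback d hIi
  have hpow : ∀ j, PicF.cl ((Scheme.Modules.pullback d).obj (ClSub.idealMod (I ^ j))) = PicF.cl L ^ j := by
    intro j
    obtain ⟨t⟩ : Nonempty (ClSub.idealMod (I ^ j) ≅ CohB1.tensorPow (ClSub.idealMod I) j) :=
      PicMul.cl_eq_iff.1 (by rw [(pow_eff_and_cl hI j).2, PicMul.cl_tensorPow])
    obtain ⟨t'⟩ := AmpleVan.RelVanish.pullback_tensorPow d (ClSub.idealMod I) j
    rw [PicMul.cl_eq_iff.2 ⟨(Scheme.Modules.pullback d).mapIso t ≪≫ t'⟩, PicMul.cl_tensorPow]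
  have htor : PicF.cl L ^ m = 1 := by
    rw [← hpow m, PicMul.one_def]
    obtain ⟨o⟩ := PicClLib.nonempty_pullback_structureModule d
    exact PicMul.cl_eq_iff.2 ⟨(Scheme.Modules.pullback d).mapIso e ≪≫ o⟩
  let χD := Curv2.euler k D (Coh.structureModule D)
  have hd : d.ker = I := Scheme.IdealSheafData.ker_subschemeι I
  -- the kernels
  have hker' : ∀ j, ∀ K : Y.Modules,
      ((Scheme.Modules.pushforward ι).obj K ≅
        (DCoh.tensorBi.obj (ClSub.idealMod (I ^ j))).obj (ClSub.quotMod I)) →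
      Coh.IsCoh K ∧ Curv2.euler k Y K = χD := by
    intro j K eK
    have hAj := H26.IdealCl.isInvertible_idealMod (pow_eff_and_cl hI j).1
    obtain ⟨t⟩ := nonempty_tensor_quotMod d hAj
    rw [hd] at t
    have hN : PicF.IsInvertible ((Scheme.Modules.pullback d).obj (ClSub.idealMod (I ^ j))) :=
      PicClLib.isInvertible_pullback d hAj
    let eK' : K ≅ (Scheme.Modules.pushforward c).obj ((Scheme.Modules.pullback d).obj (ClSub.idealMod (I ^ j))) :=
      Φ.preimageIso (eK ≪≫ t ≪≫ ((Scheme.Modules.pushforwardCongr hc).app _).symm ≪≫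
        ((Scheme.Modules.pushforwardComp c ι).app _).symm)
    refine ⟨RefX.isCoh_of_iso eK'.symm (QCoh.isCoh_push c (AmpleVan.isCoh_invertible hN)), ?_⟩
    rw [CurveCohLib.euler_congr (k := k) eK']
    refine (Pic13Lib.euler_push c rfl (AmpleVan.isCoh_invertible hN).1).trans ?_
    exact euler_torsion k hL m hm htor (hpow j)
  have main : ∀ j, 1 ≤ j → j ≤ m → ∀ Q : Y.Modules, Coh.IsCoh Q →
      ((Scheme.Modules.pushforward ι).obj Q ≅ ClSub.quotMod (I ^ j)) → Curv2.euler k Y Q = j * χD := by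
    intro j h1 h2
    induction j, h1 using Nat.le_induction with
    | base =>
      intro Q _ eQ
      obtain ⟨q⟩ := DivisorExt.nonempty_quotMod_iso d
      rw [hd] at q
      rw [pow_one] at eQ
      let eQ' : Q ≅ (Scheme.Modules.pushforward c).obj (Coh.structureModule D) :=
        Φ.preimageIso (eQ ≪≫ q ≪≫ ((Scheme.Modules.pushforwardCongr hc).app _).symm ≪≫
          ((Scheme.Modules.pushforwardComp c ι).app _).symm)
      rw [CurveCohLib.euler_congr (k := k) eQ', Nat.cast_one, one_mul]
      exact Pic13Lib.euler_push c rfl QCoh.isCoh_structureModule'.1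
    | succ j hj ih =>
      intro Q hQc eQ
      obtain ⟨Q', hQ'c, ⟨eQ'⟩⟩ := hQ j (by omega)
      obtain ⟨T, hT, ⟨t₁⟩, ⟨t₂⟩, ⟨t₃⟩⟩ := exists_step (I ^ j) I (pow_eff_and_cl hI j).1
      rw [← pow_succ] at t₂
      obtain ⟨tK⟩ := nonempty_tensor_quotMod d (H26.IdealCl.isInvertible_idealMod (pow_eff_and_cl hI j).1)
      rw [hd] at tK
      let K := (Scheme.Modules.pushforward c).obj ((Scheme.Modules.pullback d).obj (ClSub.idealMod (I ^ j)))
      let eK : (Scheme.Modules.pushforward ι).obj K ≅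
          (DCoh.tensorBi.obj (ClSub.idealMod (I ^ j))).obj (ClSub.quotMod I) :=
        (Scheme.Modules.pushforwardComp c ι).app _ ≪≫ (Scheme.Modules.pushforwardCongr hc).app _ ≪≫ tK.symm
      let a₁ := eK ≪≫ t₁.symm
      let a₂ := eQ ≪≫ t₂.symm
      let a₃ := eQ' ≪≫ t₃.symm
      let u := Φ.preimage (a₁.hom ≫ T.f ≫ a₂.inv)
      let v := Φ.preimage (a₂.hom ≫ T.g ≫ a₃.inv)
      have hu : (Scheme.Modules.pushforward ι).map u = a₁.hom ≫ T.f ≫ a₂.inv := Φ.map_preimage _
      have hv : (Scheme.Modules.pushforward ι).map v = a₂.hom ≫ T.g ≫ a₃.inv := Φ.map_preimage _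
      have huv : u ≫ v = 0 := Φ.map_injective (by
        rw [Functor.map_comp, hu, hv, Functor.map_zero]
        simp only [Category.assoc, Iso.inv_hom_id_assoc, T.zero_assoc, zero_comp, comp_zero])
      let S := ShortComplex.mk u v huv
      have hS' : (S.map (Scheme.Modules.pushforward ι)).ShortExact :=
        ShortComplex.shortExact_of_iso (ShortComplex.isoMk a₁.symm a₂.symm a₃.symm
          (by show a₁.inv ≫ (Scheme.Modules.pushforward ι).map u = T.f ≫ a₂.inv
              rw [hu, Iso.inv_hom_id_assoc])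
          (by show a₂.inv ≫ (Scheme.Modules.pushforward ι).map v = T.g ≫ a₃.inv
              rw [hv, Iso.inv_hom_id_assoc])) hT
      have hS : S.ShortExact :=
        haveI := hS'.mono_f
        haveI := hS'.epi_g
        haveI : Mono S.f := (Scheme.Modules.pushforward ι).mono_of_mono_map
          (show Mono ((Scheme.Modules.pushforward ι).map S.f) from hS'.mono_f)
        haveI : Epi S.g := (Scheme.Modules.pushforward ι).epi_of_epi_map
          (show Epi ((Scheme.Modules.pushforward ι).map S.g) from hS'.epi_g)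
        ShortComplex.ShortExact.mk ((S.exact_map_iff_of_faithful (Scheme.Modules.pushforward ι)).1 hS'.exact)
      obtain ⟨hKc, hKe⟩ := hker' j K eK
      rw [CurveCohLib.euler_additive (k := k) hS hKc hQc hQ'c, hKe, ih (by omega) Q' hQ'c eQ']
      push_cast
      ring
  obtain ⟨q⟩ := DivisorExt.nonempty_quotMod_iso ι
  rw [hker] at q
  exact ⟨χD, main m hm le_rfl _ QCoh.isCoh_structureModule' q.symm⟩

end Groth.Agent.DivEuler
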